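import Cfsg.Agent.CharDeep.Deg.TwoDegMain
import Cfsg.Agent.CharDeep.Deg.DegreeP
import Cfsg.Agent.CharDeep.Ext.Inertia
import Cfsg.Agent.Lib.Fitting
import Cfsg.Agent.Lib.Fitting.Minimal
import Cfsg.Agent.BC86.VanRegular

/-!
# Solvable groups with squarefree character degrees

The Fitting subgroup is metabelian, and modulo it the Fitting subgroup is cyclic of squarefree
order, because an abelian self-centralising normal subgroup has squarefree orbit lengths on its
linear characters.
-/

set_option autoImplicit false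
set_option linter.unusedSectionVars false

open Cfsg
open scoped commutatorElement

namespace Cfsg.Agent.SqFree

universe u

section Twist

variable {L : Type*} [CommGroup L] (F : L → L) (hmul : ∀ x y, F (x * y) = F x * F y)

include hmul in
theorem twist_fix {u v : L} (hu : F u = u) (hv : F v = v) : F (u * v⁻¹) = u * v⁻¹ := by
  have h := hmul (u * v⁻¹) v
  rw [inv_mul_cancel_right, hu, hv] at h
  exact eq_mul_inv_iff_mul_eq.mpr h.symm

include hmul in
theorem twist_eq {a b : L} (h : F (a * b) = a * b) : F a * a⁻¹ = b * (F b)⁻¹ := by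
  rw [hmul] at h
  rw [← div_eq_mul_inv, ← div_eq_mul_inv, div_eq_div_iff_mul_eq_mul, h, mul_comm]

include hmul in
/-- A translation by a fixed element of order prime to `q` that has period `q` is trivial. -/
theorem twist_main {a b : L} {q : ℕ} (h : F (a * b) = a * b) (hx : (orderOf a).Coprime q)
    (ht : F (F a * a⁻¹) = F a * a⁻¹) (hq : F^[q] a = a) : F a = a ∧ F b = b := by
  let f : L →* L := MonoidHom.mk' F hmul
  set t := F a * a⁻¹ with htdef
  have hFa : F a = a * t := by rw [htdef, mul_comm (F a), mul_inv_cancel_left]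
  have hit : ∀ i : ℕ, F^[i] a = a * t ^ i := by
    intro i
    induction i with
    | zero => simp
    | succ i ih =>
      rw [Function.iterate_succ_apply', ih, hmul, hFa,
        show F (t ^ i) = t ^ i from (map_pow f t i).trans (congrArg (· ^ i) ht), pow_succ',
        mul_assoc]
  have h1 := hit q
  rw [hq] at h1
  have htq : t ^ q = 1 := left_eq_mul.mp h1
  have hto : t ^ orderOf a = 1 := by
    rw [htdef, mul_pow, inv_pow, pow_orderOf_eq_one, inv_one, mul_one]
    show (f a) ^ orderOf a = 1
    rw [← map_pow, pow_orderOf_eq_one, map_one]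
  have ht1 : t = 1 := by
    have h2 := pow_gcd_eq_one.mpr ⟨hto, htq⟩
    rwa [hx.gcd_eq_one, pow_one] at h2
  have ha : F a = a := by rw [hFa, ht1, mul_one]
  refine ⟨ha, ?_⟩
  rw [hmul, ha] at h
  exact mul_left_cancel h

end Twist

variable {G : Type u} [Group G] [Finite G]

/-- All degrees are squarefree. -/
def SqDeg (G : Type u) [Group G] : Prop :=
  ∀ χ : Cfsg.IrrCharacter G, Squarefree (Cfsg.charDegree (χ : G → ℂ))

theorem SqDeg.quotient (h : SqDeg G) (N : Subgroup G) [N.Normal] : SqDeg (G ⧸ N) := fun θ => by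
  obtain ⟨χ, hχ, -⟩ := CharDeep.Deg.exists_inflate N θ
  exact hχ ▸ h χ

theorem SqDeg.normal (h : SqDeg G) (N : Subgroup G) [N.Normal] : SqDeg N := fun θ => by
  obtain ⟨χ, hχ⟩ := CharDeep.Deg.exists_dvd_of_normal N θ
  exact (h χ).squarefree_of_dvd hχ

/-- A nilpotent group with squarefree degrees is metabelian. -/
theorem derivedSeries_two_of_nilpotent (h : SqDeg G) [Group.IsNilpotent G] :
    derivedSeries G 2 = ⊥ := by
  classical
  have hn : ∀ {p : ℕ} [Fact p.Prime] (P : Sylow p G), (P : Subgroup G).Normal := fun {p} _ P =>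
    Sylow.normal_of_normalizerCondition Group.normalizerCondition_of_isNilpotent P
  let e := (Sylow.directProductOfNormal (G := G) hn).symm
  rw [eq_bot_iff]
  intro x hx
  rw [Subgroup.mem_bot]
  refine e.injective ?_
  rw [map_one]
  funext r P
  haveI : Fact (r : ℕ).Prime := ⟨Nat.prime_of_mem_primeFactors r.2⟩
  let π : G →* (P : Subgroup G) :=
    { toFun := fun g => e g r P
      map_one' := by rw [map_one]; rfl
      map_mul' := fun a b => by rw [map_mul]; rfl }
  have h2 : derivedSeries (P : Subgroup G) 2 = ⊥ := by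
    haveI := hn P
    haveI := Fintype.ofFinite (P : Subgroup G)
    by_cases hab : ∀ χ : Cfsg.IrrCharacter (P : Subgroup G),
        Cfsg.charDegree (χ : ↥(P : Subgroup G) → ℂ) = 1
    · rw [derivedSeries_succ, derivedSeries_one, eq_bot_iff, Subgroup.commutator_le]
      intro a _ b _
      exact Subgroup.mem_bot.mpr (commutatorElement_eq_one_iff_mul_comm.mpr
        (CharDeep.Deg.commute_of_degree_one hab a b))
    push Not at hab
    have hcd : ∀ χ : Cfsg.IrrCharacter (P : Subgroup G),
        Cfsg.charDegree (χ : ↥(P : Subgroup G) → ℂ) = 1 ∨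
          Cfsg.charDegree (χ : ↥(P : Subgroup G) → ℂ) = (r : ℕ) := by
      intro χ
      obtain ⟨d, -, hd, hdvd, -⟩ := CharDeep.TIFrob.exists_degree_dvd χ
      obtain ⟨n, hn'⟩ := IsPGroup.iff_card.mp P.2
      obtain ⟨i, -, hi⟩ := (Nat.dvd_prime_pow (Fact.out : (r : ℕ).Prime)).mp (hn' ▸ hdvd)
      have hsq := (h.normal (P : Subgroup G)) χ
      rw [CharDeep.Deg.degree_of_eq hd] at hsq ⊢
      subst hi
      rcases Nat.lt_or_ge i 2 with hi2 | hi2
      · interval_cases i
        · exact Or.inl (pow_zero _)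
        · exact Or.inr (pow_one _)
      · exfalso
        have : (r : ℕ) * r ∣ (r : ℕ) ^ i := by
          rw [← sq]; exact pow_dvd_pow _ hi2
        exact (Fact.out : (r : ℕ).Prime).one_lt.ne' (Nat.isUnit_iff.mp (hsq _ this))
    obtain ⟨χ, hχ⟩ := hab
    have hm := (hcd χ).resolve_left hχ
    have hc := CharDeep.Deg.derived_commute hcd ⟨χ, hm⟩ (hm ▸ hχ)
    rw [derivedSeries_succ, derivedSeries_one, eq_bot_iff, Subgroup.commutator_le]
    exact fun a ha b hb =>
      Subgroup.mem_bot.mpr (commutatorElement_eq_one_iff_mul_comm.mpr (hc a ha b hb))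
  have h3 := map_derivedSeries_le_derivedSeries π 2 ⟨x, hx, rfl⟩
  rw [h2, Subgroup.mem_bot] at h3
  exact h3

/-- A subgroup that is a `q`-group over a central subgroup is nilpotent. -/
theorem nilpotent_of_central {D W : Subgroup G} (q : ℕ) [Fact q.Prime]
    (hc : ∀ d ∈ D, ∀ w ∈ W, d * w * d⁻¹ = w) (hp : ∀ x ∈ D, ∃ i : ℕ, x ^ q ^ i ∈ W) :
    Group.IsNilpotent D := by
  haveI hWn : (W.subgroupOf D).Normal := ⟨fun w hw d => by
    show ((d * w * d⁻¹ : D) : G) ∈ W
    have e : ((d * w * d⁻¹ : D) : G) = (w : G) := hc _ d.2 _ hw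
    rw [e]
    exact hw⟩
  haveI : Group.IsNilpotent (D ⧸ W.subgroupOf D) := by
    refine IsPGroup.isNilpotent (p := q) fun x => ?_
    obtain ⟨x, rfl⟩ := QuotientGroup.mk'_surjective (W.subgroupOf D) x
    obtain ⟨i, hi⟩ := hp x x.2
    exact ⟨i, by rw [← map_pow]; exact (QuotientGroup.eq_one_iff _).mpr hi⟩
  exact isNilpotent_of_ker_le_center (QuotientGroup.mk' (W.subgroupOf D)) (by
    rw [QuotientGroup.ker_mk']
    intro w hw
    rw [Subgroup.mem_center_iff]
    intro d
    exact Subtype.ext (mul_inv_eq_iff_eq_mul.mp (hc _ d.2 _ hw)))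

/-- The index in a normal subgroup divides the index in the group. -/
theorem relIndex_dvd_index (T K : Subgroup G) [K.Normal] : T.relIndex K ∣ T.index := by
  have h := Subgroup.relIndex_sup_right (H := T) (K := K)
  have e1 := Subgroup.relIndex_mul_relIndex ⊥ T (T ⊔ K) bot_le le_sup_left
  have e2 := Subgroup.relIndex_mul_relIndex ⊥ K (T ⊔ K) bot_le le_sup_right
  have e3 := Subgroup.relIndex_mul_relIndex ⊥ (T ⊓ K) T bot_le inf_le_left
  have e4 := Subgroup.relIndex_mul_relIndex ⊥ (T ⊓ K) K bot_le inf_le_right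
  rw [Subgroup.inf_relIndex_left] at e3
  rw [Subgroup.inf_relIndex_right] at e4
  simp only [Subgroup.relIndex_bot_left] at e1 e2 e3 e4
  rw [h] at e2
  have e5 : T.relIndex (T ⊔ K) = T.relIndex K := by
    refine Nat.eq_of_mul_eq_mul_left (Nat.card_pos (α := T)) ?_
    rw [e1, ← e2, ← e4, ← e3]
    ring
  exact e5 ▸ Subgroup.relIndex_dvd_index_of_le le_sup_left

/-- Stabilisers of linear characters of an abelian normal subgroup have squarefree index. -/
theorem squarefree_index_stab (h : SqDeg G) (V : Subgroup G) [V.Normal]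
    (hab : ∀ a ∈ V, ∀ b ∈ V, a * b = b * a) (l : V →* ℂˣ) :
    Squarefree (CharDeep.Deg.stab V l).index := by
  classical
  haveI := Fintype.ofFinite G
  haveI := Fintype.ofFinite V
  set T := CharDeep.Deg.stab V l
  haveI := Fintype.ofFinite T
  let θ : Cfsg.IrrCharacter V := ⟨_, CharCore.isIrrCharacter_hom l⟩
  obtain ⟨χ, hχ⟩ := CharCore.exists_over V θ
  obtain ⟨ψ, hψ, hind, -⟩ := CharDeep.Ext.exists_inertia_induced V θ.2 T
    (fun g => by
      constructor
      · intro hg n; exact congrFun hg n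
      · intro hg; funext n; exact hg n)
    (CharDeep.Deg.le_stab V hab l) χ.2 hχ
  obtain ⟨d, -, hd⟩ := CharCore.IsIrrCharacter.exists_degree hψ
  have h1 := congrFun hind 1
  rw [CharInd.indFun_apply_one, hd] at h1
  have h2 : Cfsg.charDegree (χ : G → ℂ) = T.index * d :=
    CharDeep.Deg.degree_of_eq (by rw [← h1]; push_cast; rfl)
  exact (h χ).squarefree_of_dvd (h2 ▸ dvd_mul_right _ _)

variable (V : Subgroup G) [hVn : V.Normal] (hab : ∀ a ∈ V, ∀ b ∈ V, a * b = b * a)
  (hF : Cfsg.fittingSubgroup G = V)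

include hab hF in
set_option maxHeartbeats 3200000 in
/-- Sylow subgroups of the Fitting subgroup above an abelian Fitting subgroup have prime order. -/
theorem card_dvd_prime (h : SqDeg G) {q : ℕ} [hq : Fact q.Prime] (Q : Subgroup (G ⧸ V)) [Q.Normal]
    (hQ : IsPGroup q Q) : Nat.card Q ∣ q := by
  classical
  letI := Fintype.ofFinite G
  letI := Fintype.ofFinite V
  set K := Q.comap (QuotientGroup.mk' V) with hK
  haveI hKn : K.Normal := by rw [hK]; infer_instance
  have hVK : V ≤ K := fun v hv => by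
    rw [hK, Subgroup.mem_comap, show QuotientGroup.mk' V v = 1 from (QuotientGroup.eq_one_iff v).mpr hv]
    exact Q.one_mem
  have hidx : V.relIndex K = Nat.card Q := by
    have h1 := Subgroup.relIndex_comap ⊥ (QuotientGroup.mk' V) K
    rw [MonoidHom.comap_bot, QuotientGroup.ker_mk', Subgroup.relIndex_bot_left] at h1
    rw [h1, hK, Subgroup.map_comap_eq_self_of_surjective (QuotientGroup.mk'_surjective V)]
  obtain ⟨n, hn⟩ := IsPGroup.iff_card.mp hQ
  have hstab : ∀ l : V →* ℂˣ, (CharDeep.Deg.stab V l).relIndex K ∣ q := by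
    intro l
    have h1 : (CharDeep.Deg.stab V l).relIndex K ∣ q ^ n := by
      rw [← hn, ← hidx]
      exact Subgroup.relIndex_dvd_of_le_left K (CharDeep.Deg.le_stab V hab l)
    have h2 : (CharDeep.Deg.stab V l).relIndex K ∣ (CharDeep.Deg.stab V l).index :=
      relIndex_dvd_index _ K
    obtain ⟨i, -, hi⟩ := (Nat.dvd_prime_pow hq.out).mp h1
    rw [hi]
    rcases Nat.lt_or_ge i 2 with hi2 | hi2
    · calc q ^ i ∣ q ^ 1 := pow_dvd_pow _ (by omega)
        _ = q := pow_one q
    · exfalso
      have h3 : q * q ∣ (CharDeep.Deg.stab V l).index :=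
        ((sq q).symm ▸ pow_dvd_pow q hi2).trans (hi ▸ h2)
      exact hq.out.one_lt.ne' (Nat.isUnit_iff.mp (squarefree_index_stab h V hab l _ h3))
  let S : (V →* ℂˣ) → Subgroup G := fun l => CharDeep.Deg.stab V l ⊓ K
  have hVS : ∀ l, V ≤ S l := fun l => le_inf (CharDeep.Deg.le_stab V hab l) hVK
  have hSidx : ∀ l, (S l).relIndex K ∣ q := fun l => by
    rw [Subgroup.inf_relIndex_right]; exact hstab l
  -- the stabilisers are normal in `K`
  have hSn : ∀ l, ((S l).subgroupOf K).Normal := by
    intro l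
    rcases (Nat.dvd_prime hq.out).mp (hSidx l) with h1 | h1
    · rw [Subgroup.relIndex_eq_one] at h1
      rw [Subgroup.subgroupOf_eq_top.mpr h1]
      infer_instance
    · let f := ((QuotientGroup.mk' V).comp K.subtype).codRestrict Q fun x => x.2
      have hfs : Function.Surjective f := by
        rintro ⟨y, hy⟩
        obtain ⟨x, rfl⟩ := QuotientGroup.mk'_surjective V y
        exact ⟨⟨x, hy⟩, Subtype.ext rfl⟩
      have hker : f.ker ≤ (S l).subgroupOf K := by
        intro x hx
        exact hVS l ((QuotientGroup.eq_one_iff _).mp (congrArg Subtype.val hx))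
      have h2 : (((S l).subgroupOf K).map f).index = q := by
        rw [Subgroup.index_map_eq _ hfs hker]
        exact h1
      haveI : (((S l).subgroupOf K).map f).Normal :=
        Subgroup.normal_of_index_eq_minFac_card (by
          rw [h2, hn]
          rcases Nat.eq_zero_or_pos n with rfl | hpos
          · exfalso
            have := Subgroup.index_dvd_card (((S l).subgroupOf K).map f)
            rw [h2, hn, pow_zero, Nat.dvd_one] at this
            exact hq.out.one_lt.ne' this
          · rw [Nat.pow_minFac hpos.ne', hq.out.minFac_eq])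
      rw [← Subgroup.comap_map_eq_self hker]
      infer_instance
  let X : (V →* ℂˣ) → Prop := fun l => (orderOf l).Coprime q
  have hfix : ∀ l, ∀ k, (k ∈ S l ↔ k ∈ K ∧ CharDeep.Deg.act V k l = l) := fun l k => by
    rw [Subgroup.mem_inf, CharDeep.Deg.mem_stab_act]
    exact and_comm
  -- all nontrivial stabilisers coincide
  have huniq : ∀ l₁ l₂, X l₁ → X l₂ → ¬ K ≤ S l₁ → ¬ K ≤ S l₂ → S l₁ = S l₂ := by
    intro l₁ l₂ hx₁ hx₂ hp₁ hp₂
    by_contra hne
    have hidx' : ∀ l, ¬ K ≤ S l → (S l).relIndex K = q := fun l hl =>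
      ((Nat.dvd_prime hq.out).mp (hSidx l)).resolve_left fun h1 =>
        hl (Subgroup.relIndex_eq_one.mp h1)
    have hinc : S (l₁ * l₂) ≤ S l₁ ⊓ S l₂ := by
      intro a ha
      obtain ⟨haK, hal⟩ := (hfix _ a).mp ha
      set F := CharDeep.Deg.act V a with hFdef
      have hFm : ∀ x y, F (x * y) = F x * F y := CharDeep.Deg.act_mul V a
      set t := F l₁ * l₁⁻¹ with ht
      have ht2 : t = l₂ * (F l₂)⁻¹ := twist_eq (L := ↥V →* ℂˣ) F hFm hal
      have hkeep : ∀ l, ∀ b ∈ S l, CharDeep.Deg.act V b (CharDeep.Deg.act V a l) =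
          CharDeep.Deg.act V a l := by
        intro l b hb
        have hb' : a * b * a⁻¹ ∈ S l := (hSn l).conj_mem ⟨b, hb.2⟩ hb ⟨a, haK⟩
        rw [CharDeep.Deg.act_act]
        conv_rhs => rw [← ((hfix l _).mp hb').2]
        rw [CharDeep.Deg.act_act, inv_mul_cancel_right]
      have hbt : ∀ b ∈ S l₁, CharDeep.Deg.act V b t = t := fun b hb =>
        twist_fix (L := ↥V →* ℂˣ) (CharDeep.Deg.act V b) (CharDeep.Deg.act_mul V b)
          (hkeep l₁ b hb) ((hfix l₁ b).mp hb).2
      have hbt' : ∀ b ∈ S l₂, CharDeep.Deg.act V b t = t := fun b hb => by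
        rw [ht2]
        exact twist_fix (L := ↥V →* ℂˣ) (CharDeep.Deg.act V b) (CharDeep.Deg.act_mul V b)
          ((hfix l₂ b).mp hb).2 (hkeep l₂ b hb)
      have hKt : K ≤ S t := by
        have h12 : S l₁ ⊔ S l₂ ≤ S t := sup_le (fun b hb => (hfix t b).mpr ⟨hb.2, hbt b hb⟩)
          fun b hb => (hfix t b).mpr ⟨hb.2, hbt' b hb⟩
        refine le_trans ?_ h12
        have hm : (S l₁).relIndex (S l₁ ⊔ S l₂) * (S l₁ ⊔ S l₂).relIndex K = q := by
          rw [Subgroup.relIndex_mul_relIndex _ _ _ le_sup_left (sup_le inf_le_right inf_le_right)]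
          exact hidx' l₁ hp₁
        rcases hq.out.eq_one_or_self_of_dvd _ (Dvd.intro_left _ hm) with h1 | h1
        · exact Subgroup.relIndex_eq_one.mp h1
        · exfalso
          rw [h1] at hm
          have h3 : (S l₁).relIndex (S l₁ ⊔ S l₂) = 1 := by
            nlinarith [hq.out.pos]
          have h4 : S l₂ ≤ S l₁ := le_sup_right.trans (Subgroup.relIndex_eq_one.mp h3)
          refine hne ?_
          have hc : Nat.card (S l₁) = Nat.card (S l₂) := by
            have e1 := Subgroup.relIndex_mul_relIndex ⊥ (S l₁) K bot_le inf_le_right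
            have e2 := Subgroup.relIndex_mul_relIndex ⊥ (S l₂) K bot_le inf_le_right
            rw [Subgroup.relIndex_bot_left, hidx' _ hp₁] at e1
            rw [Subgroup.relIndex_bot_left, hidx' _ hp₂] at e2
            exact Nat.eq_of_mul_eq_mul_right hq.out.pos (e1.trans e2.symm)
          exact (Subgroup.eq_of_le_of_card_ge h4 hc.le).symm
      have hat : CharDeep.Deg.act V a t = t := ((hfix t a).mp (hKt haK)).2
      have hit : ∀ i : ℕ, CharDeep.Deg.act V (a ^ i) l₁ = F^[i] l₁ := by
        intro i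
        induction i with
        | zero => rw [pow_zero, CharDeep.Deg.act_one]; rfl
        | succ i ih => rw [pow_succ, ← CharDeep.Deg.act_act, ih, Function.iterate_succ_apply']
      have haq : a ^ q ∈ S l₁ := by
        haveI := hSn l₁
        have h1 := Subgroup.pow_index_mem ((S l₁).subgroupOf K) ⟨a, haK⟩
        rw [show ((S l₁).subgroupOf K).index = q from hidx' l₁ hp₁] at h1
        exact h1
      obtain ⟨e1, e2⟩ := twist_main (L := ↥V →* ℂˣ) F hFm (q := q) hal hx₁ hat
        ((hit q).symm.trans ((hfix l₁ _).mp haq).2)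
      exact ⟨(hfix _ a).mpr ⟨haK, e1⟩, (hfix _ a).mpr ⟨haK, e2⟩⟩
    have h1 : (S l₁ ⊓ S l₂).relIndex K ∣ q :=
      (Subgroup.relIndex_dvd_of_le_left K hinc).trans (hSidx _)
    have hlt : S l₁ ⊓ S l₂ ≤ S l₁ := inf_le_left
    have h2 := Subgroup.relIndex_mul_relIndex _ _ K hlt inf_le_right
    rw [hidx' l₁ hp₁] at h2
    have h3 : (S l₁ ⊓ S l₂).relIndex (S l₁) = 1 := by
      rcases (Nat.dvd_prime hq.out).mp h1 with e | e <;> rw [e] at h2 <;>
        nlinarith [hq.out.one_lt]
    have h4 : S l₁ ≤ S l₂ := (Subgroup.relIndex_eq_one.mp h3).trans inf_le_right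
    refine hne (Subgroup.eq_of_le_of_card_ge h4 ?_)
    have e1 := Subgroup.relIndex_mul_relIndex ⊥ (S l₁) K bot_le inf_le_right
    have e2 := Subgroup.relIndex_mul_relIndex ⊥ (S l₂) K bot_le inf_le_right
    rw [Subgroup.relIndex_bot_left, hidx' _ hp₁] at e1
    rw [Subgroup.relIndex_bot_left, hidx' _ hp₂] at e2
    exact (Nat.eq_of_mul_eq_mul_right hq.out.pos (e1.trans e2.symm)).ge
  -- the common kernel is nilpotent, hence inside the Fitting subgroup
  let D : Subgroup G := K ⊓ ⨅ l : {l // X l}, S l.1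
  have hDn : D.Normal := by
    haveI : K.Normal := by rw [hK]; infer_instance
    refine ⟨fun d hd g => ⟨‹K.Normal›.conj_mem d hd.1 g, Subgroup.mem_iInf.mpr fun ⟨l, hl⟩ => ?_⟩⟩
    refine (hfix l _).mpr ⟨‹K.Normal›.conj_mem d hd.1 g, ?_⟩
    have hl' : X (CharDeep.Deg.act V g l) := by
      refine Nat.Coprime.coprime_dvd_left (orderOf_dvd_of_pow_eq_one (n := orderOf l) ?_) hl
      refine MonoidHom.ext fun b => ?_
      rw [MonoidHom.pow_apply, CharDeep.Deg.act_apply, ← MonoidHom.pow_apply, pow_orderOf_eq_one]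
      rfl
    have h1 := ((hfix _ d).mp (Subgroup.mem_iInf.mp hd.2 ⟨_, hl'⟩)).2
    rw [CharDeep.Deg.act_act] at h1
    have h2 := congrArg (CharDeep.Deg.act V g⁻¹) h1
    rwa [CharDeep.Deg.act_act, CharDeep.Deg.act_act, mul_inv_cancel, CharDeep.Deg.act_one] at h2
  have hVD : V ≤ D := le_inf hVK (le_iInf fun l => hVS l.1)
  let W : Subgroup G :=
    { carrier := {v | v ∈ V ∧ (orderOf v).Coprime q}
      one_mem' := ⟨V.one_mem, by rw [orderOf_one]; exact Nat.coprime_one_left q⟩
      mul_mem' := fun {a b} ha hb => ⟨V.mul_mem ha.1 hb.1,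
        Nat.Coprime.coprime_dvd_left (Commute.orderOf_mul_dvd_mul_orderOf (hab a ha.1 b hb.1))
          (ha.2.mul_left hb.2)⟩
      inv_mem' := fun {a} ha => ⟨V.inv_mem ha.1, by rw [orderOf_inv]; exact ha.2⟩ }
  have hcentral : ∀ d ∈ D, ∀ w ∈ W, d * w * d⁻¹ = w := by
    intro d hd w hw
    have h1 := congrArg Subtype.val (CharDeep.Deg.eq_of_forall_hom V hab
      (x := MulAut.conjNormal d ⟨w, hw.1⟩) (y := ⟨w, hw.1⟩) fun l => ?_)
    · rwa [MulAut.conjNormal_apply] at h1
    set o := orderOf w
    obtain ⟨j, hj⟩ : ∃ j, Nat.ModEq o (q ^ Nat.card G * j) 1 := by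
      rcases Nat.eq_or_lt_of_le (show 1 ≤ o from orderOf_pos w) with ho | ho
      · exact ⟨0, by rw [← ho]; exact Nat.modEq_one⟩
      · obtain ⟨j, -, hj⟩ := Nat.exists_mul_mod_eq_one_of_coprime
          (n := q ^ Nat.card G) ((Nat.Coprime.pow_right _ hw.2).symm) ho
        exact ⟨j, by rw [Nat.ModEq, hj, Nat.one_mod_eq_one.mpr ho.ne']⟩
    set l' := l ^ (q ^ Nat.card G * j) with hl'
    have hX : X l' := by
      have hm : orderOf l ∣ Nat.card (V →* ℂˣ) := orderOf_dvd_natCard l
      obtain ⟨a, b, hb, hmab⟩ := Nat.exists_eq_pow_mul_and_not_dvd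
        (orderOf_pos l).ne' q hq.out.ne_one
      refine Nat.Coprime.coprime_dvd_left ?_ ((hq.out.coprime_iff_not_dvd.mpr hb).symm)
      refine orderOf_dvd_of_pow_eq_one ?_
      rw [hl']
      refine (pow_mul l _ _).symm.trans ?_
      refine orderOf_dvd_iff_pow_eq_one.mp ?_
      rw [hmab, mul_assoc]
      refine Nat.mul_dvd_mul (pow_dvd_pow q ?_) (dvd_mul_left b j)
      have ha : q ^ a ∣ Nat.card G := by
        refine (Dvd.intro _ hmab.symm).trans ?_
        refine Nat.dvd_trans ?_ (Subgroup.card_subgroup_dvd_card V)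
        refine orderOf_dvd_of_pow_eq_one (MonoidHom.ext fun b => ?_)
        rw [MonoidHom.pow_apply, ← map_pow, pow_card_eq_one', map_one]
        rfl
      have h3 := Nat.le_of_dvd Nat.card_pos ha
      have h4 := Nat.lt_pow_self (n := a) hq.out.one_lt
      omega
    have hact := ((hfix l' d).mp (Subgroup.mem_iInf.mp hd.2 ⟨l', hX⟩)).2
    have h2 := DFunLike.congr_fun hact ⟨w, hw.1⟩
    rw [CharDeep.Deg.act_apply] at h2
    have hpow : ∀ u : V, u ^ o = 1 → l' u = l u := by
      intro u hu
      rw [hl', MonoidHom.pow_apply, ← map_pow]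
      refine congrArg l ?_
      have hdvd : orderOf u ∣ o := orderOf_dvd_of_pow_eq_one hu
      conv_rhs => rw [← pow_one u]
      exact pow_eq_pow_iff_modEq.mpr (hj.of_dvd hdvd)
    have hw1 : (⟨w, hw.1⟩ : V) ^ o = 1 :=
      Subtype.ext ((SubmonoidClass.coe_pow _ _).trans (pow_orderOf_eq_one w))
    rw [hpow _ hw1, hpow _ (by rw [← map_pow, hw1, map_one])] at h2
    exact h2
  have hDF : D ≤ V := by
    rw [← hF]
    refine Fitting.le_fitting hDn ?_
    refine nilpotent_of_central q hcentral fun x hx => ?_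
    obtain ⟨i, hi⟩ := hQ ⟨_, hx.1⟩
    have h1 : x ^ q ^ i ∈ V := by
      have := congrArg Subtype.val hi
      rw [SubgroupClass.coe_pow, ← map_pow] at this
      exact (QuotientGroup.eq_one_iff _).mp this
    obtain ⟨a, b, hb, hab'⟩ := Nat.exists_eq_pow_mul_and_not_dvd
      (orderOf_pos (x ^ q ^ i)).ne' q hq.out.ne_one
    refine ⟨i + a, ?_⟩
    rw [pow_add, pow_mul]
    refine ⟨V.pow_mem h1 _, Nat.Coprime.coprime_dvd_left (orderOf_dvd_of_pow_eq_one ?_)
      (hq.out.coprime_iff_not_dvd.mpr hb).symm⟩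
    rw [← pow_mul, ← hab', pow_orderOf_eq_one]
  rw [← hidx]
  by_cases hall : ∀ l, X l → K ≤ S l
  · have : K ≤ V := (le_inf le_rfl (le_iInf fun l => hall l.1 l.2) : K ≤ D).trans hDF
    rw [Subgroup.relIndex_eq_one.mpr this]
    exact one_dvd q
  push Not at hall
  obtain ⟨l₀, hx₀, hp₀⟩ := hall
  have hle : S l₀ ≤ V := by
    refine le_trans (le_inf inf_le_right (le_iInf fun ⟨l, hl⟩ => ?_)) hDF
    by_cases hp : K ≤ S l
    · exact inf_le_right.trans hp
    · exact (huniq l₀ l hx₀ hl hp₀ hp).le
  exact (Subgroup.relIndex_dvd_of_le_left K hle).trans (hSidx l₀)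

include hab hF in
/-- The quotient by an abelian Fitting subgroup is metabelian. -/
theorem derivedSeries_two_quotient (h : SqDeg G) [Group.IsSolvable G] :
    derivedSeries (G ⧸ V) 2 = ⊥ := by
  classical
  set M := Cfsg.fittingSubgroup (G ⧸ V) with hM
  haveI hMnil : Group.IsNilpotent M := Fitting.fitting_isNilpotent
  haveI : IsZGroup M := ⟨fun p hp P => by
    haveI := Fact.mk hp
    haveI : (P : Subgroup M).Characteristic := Sylow.characteristic_of_normal P
      (Sylow.normal_of_normalizerCondition Group.normalizerCondition_of_isNilpotent P)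
    haveI : ((P : Subgroup M).map M.subtype).Normal := inferInstance
    have hd := card_dvd_prime V hab hF h (q := p) ((P : Subgroup M).map M.subtype) (P.2.map _)
    rw [Subgroup.card_map_of_injective M.subtype_injective] at hd
    rcases (Nat.dvd_prime hp).mp hd with h1 | h1
    · haveI := (Nat.card_eq_one_iff_unique.mp h1).1
      infer_instance
    · exact isCyclic_of_prime_card h1⟩
  haveI : IsCyclic M := inferInstance
  haveI : Group.IsSolvable (G ⧸ V) := inferInstance
  have hcomm : commutator (G ⧸ V) ≤ M := by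
    refine le_trans ?_ Fitting.centralizer_fitting_le
    rw [commutator_def, Subgroup.commutator_le]
    intro a _ b _
    rw [Subgroup.mem_centralizer_iff]
    intro m hm
    have hconj : ∀ f g : MulAut M, f * g = g * f := by
      intro f g
      obtain ⟨i, hi⟩ := MonoidHom.map_cyclic f.toMonoidHom
      obtain ⟨j, hj⟩ := MonoidHom.map_cyclic g.toMonoidHom
      refine MulEquiv.ext fun x => ?_
      show f (g x) = g (f x)
      rw [show g x = x ^ j from hj x, map_zpow, show f x = x ^ i from hi x, map_zpow,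
        show g x = x ^ j from hj x, ← zpow_mul, ← zpow_mul, mul_comm]
    have h1 : MulAut.conjNormal (H := M) ⁅a, b⁆ = 1 := by
      rw [map_commutatorElement, commutatorElement_eq_one_iff_mul_comm]
      exact hconj _ _
    have h2 := congrArg Subtype.val (DFunLike.congr_fun h1 (⟨m, hm⟩ : M))
    rw [MulAut.conjNormal_apply, MulAut.one_apply, mul_inv_eq_iff_eq_mul] at h2
    exact h2.symm
  rw [derivedSeries_succ, derivedSeries_one, eq_bot_iff, Subgroup.commutator_le]
  intro a ha b hb
  refine Subgroup.mem_bot.mpr (commutatorElement_eq_one_iff_mul_comm.mpr ?_)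
  exact congrArg Subtype.val (IsMulCommutative.is_comm.comm (⟨a, hcomm ha⟩ : M) ⟨b, hcomm hb⟩)

omit hVn in
/-- Derived length at most four. -/
theorem derivedSeries_four [Group.IsSolvable G] (h : SqDeg G) : derivedSeries G 4 = ⊥ := by
  classical
  set F := Cfsg.fittingSubgroup G with hFdef
  haveI : Group.IsNilpotent F := Fitting.fitting_isNilpotent
  set π := QuotientGroup.mk' (frattini G) with hπ
  set V := F.map π with hV
  haveI : V.Normal := Subgroup.Normal.map inferInstance π (QuotientGroup.mk'_surjective _)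
  have hVF : Cfsg.fittingSubgroup (G ⧸ frattini G) = V := by
    refine le_antisymm ?_ (Fitting.map_fitting_le π (QuotientGroup.mk'_surjective _))
    set B := Cfsg.fittingSubgroup (G ⧸ frattini G) with hB
    rw [← Subgroup.map_comap_eq_self_of_surjective (QuotientGroup.mk'_surjective (frattini G)) B]
    refine Subgroup.map_mono (Fitting.le_fitting (inferInstanceAs (B.comap π).Normal) ?_)
    refine Fitting.isNilpotent_of_quotient_le_frattini (B.comap π) (frattini G) le_rfl ?_
    haveI : Group.IsNilpotent B := Fitting.fitting_isNilpotent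
    let f := (π.comp (B.comap π).subtype).codRestrict B fun x => x.2
    have hf : (frattini G).subgroupOf (B.comap π) = f.ker := by
      ext x
      rw [Subgroup.mem_subgroupOf, MonoidHom.mem_ker, Subtype.ext_iff]
      exact (QuotientGroup.eq_one_iff _).symm
    have hfs : Function.Surjective f := by
      rintro ⟨y, hy⟩
      obtain ⟨x, rfl⟩ := QuotientGroup.mk'_surjective (frattini G) y
      exact ⟨⟨x, hy⟩, Subtype.ext rfl⟩
    exact Group.nilpotent_of_mulEquiv (G := B)
      ((QuotientGroup.quotientMulEquivOfEq hf).trans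
        (QuotientGroup.quotientKerEquivOfSurjective f hfs)).symm
  have hab : ∀ a ∈ V, ∀ b ∈ V, a * b = b * a := by
    rintro _ ⟨a, ha, rfl⟩ _ ⟨b, hb, rfl⟩
    rw [← commutatorElement_eq_one_iff_mul_comm, ← map_commutatorElement]
    refine (QuotientGroup.eq_one_iff _).mpr (Fitting.frattini_map_le F ?_)
    exact ⟨⁅(⟨a, ha⟩ : F), ⟨b, hb⟩⁆, BC86.Vanishing.commutator_le_frattini
      (Subgroup.commutator_mem_commutator (Subgroup.mem_top _) (Subgroup.mem_top _)), rfl⟩
  have h2 := derivedSeries_two_quotient V hab hVF (h.quotient _)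
  have hle : derivedSeries G 2 ≤ F := by
    intro x hx
    have h1 : QuotientGroup.mk' V (π x) ∈ derivedSeries ((G ⧸ frattini G) ⧸ V) 2 :=
      map_derivedSeries_le_derivedSeries ((QuotientGroup.mk' V).comp π) 2 ⟨x, hx, rfl⟩
    rw [h2, Subgroup.mem_bot] at h1
    obtain ⟨y, hy, hyx⟩ := (QuotientGroup.eq_one_iff _).mp h1
    have h3 : y⁻¹ * x ∈ frattini G :=
      (QuotientGroup.eq_one_iff _).mp (by rw [← QuotientGroup.mk'_apply, map_mul, map_inv, hyx,
        inv_mul_cancel])
    have := F.mul_mem hy (Fitting.frattini_le_fitting h3)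
    rwa [mul_inv_cancel_left] at this
  have hF2 := derivedSeries_two_of_nilpotent (h.normal F)
  have e : ∀ k, derivedSeries G (2 + k) ≤ (derivedSeries F k).map F.subtype := by
    intro k
    induction k with
    | zero => rw [derivedSeries_zero, ← MonoidHom.range_eq_map, Subgroup.range_subtype]; exact hle
    | succ k ih =>
      rw [← add_assoc, derivedSeries_succ, derivedSeries_succ, Subgroup.map_commutator]
      exact Subgroup.commutator_mono ih ih
  have := e 2
  rwa [hF2, Subgroup.map_bot, le_bot_iff] at this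

end Cfsg.Agent.SqFree
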